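/-
Computations in the symmetric group of degree five.
-/
import Mathlib.GroupTheory.SpecificGroups.Alternating

set_option autoImplicit false

namespace Cfsg.Agent.HIR

open Equiv Equiv.Perm

theorem s5_a : ∀ τ : Perm (Fin 5), τ * τ = 1 → sign τ ≠ 1 →
    (Finset.univ.filter fun σ : Perm (Fin 5) => σ * τ = τ * σ ∧ sign σ = 1).card = 6 := by
  decide +kernel

theorem s5_b : ∀ τ : Perm (Fin 5), τ * τ = 1 → sign τ = 1 →
    4 ∣ (Finset.univ.filter fun σ : Perm (Fin 5) => σ * τ = τ * σ ∧ sign σ = 1).card := by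
  decide +kernel

theorem s5_c : ∀ τ : Perm (Fin 5), τ * τ = 1 → sign τ ≠ 1 → ∀ τ' : Perm (Fin 5), τ' * τ' = 1 →
    sign τ' ≠ 1 → (∀ σ : Perm (Fin 5), σ * τ = τ * σ → sign σ = 1 → σ * τ' = τ' * σ) → τ = τ' := by
  decide +kernel

set_option synthInstance.maxSize 2000 in
theorem s5_d : ∀ τ : Perm (Fin 5), τ * τ = 1 → sign τ ≠ 1 → ∃ u : Perm (Fin 5), u * u = 1 ∧
    u ≠ 1 ∧ u * τ = τ * u ∧ sign u = 1 ∧ ∃ v : Perm (Fin 5), v * v = 1 ∧ v ≠ 1 ∧ v * τ = τ * v ∧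
      sign v = 1 ∧ ∀ τ' : Perm (Fin 5), τ' * τ' = 1 → u * v * τ' = τ' * (u * v) → sign τ' ≠ 1 →
        τ' = τ := by
  decide +kernel

end Cfsg.Agent.HIR
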